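import Mathlib
import Cfsg.Prelude.Def_Local
import Cfsg.Prelude.Def_Solvable
import Cfsg.Agent.Lib.Cores
import Cfsg.Agent.Lib.LocalCore
import Cfsg.Agent.SignalizersComponents.Components
import Cfsg.Agent.SignalizersComponents.CompBasic
import Cfsg.Agent.SignalizersComponents.FStarNormal
import Cfsg.Agent.SignalizersComponents.CharP
set_option linter.all false

/-!
# A Thompson-Wielandt type theorem for a pair of conjugate maximal subgroups

`Pair M N X Y A B`: `M`, `N` are conjugate, each is the normalizer of its nontrivial normal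
subgroups, no nontrivial subgroup is normal in both; `X`, `Y` are the cores of `M ∩ N` in `M`, `N`;
`A ≤ X ∩ Y` is normal in `M` and `B ≤ X ∩ Y` is normal in `N`, both nontrivial.  Then for some
prime `p` both `F*(M)` and `F*(N)` are `p`-groups and `A`, `B` are `p`-groups.
-/

set_option autoImplicit false
set_option linter.style.haveILetI false

namespace Cfsg.Agent.H900.TWCore

open Subgroup Cfsg Cfsg.Agent.Lib Cfsg.Agent.Lib.LocalCore

variable {G : Type*} [Group G]

/-- if `P` is a `p`-group normalizing `B` then each element of `PB` has a `p`-power in `B`. -/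
theorem pow_mem_of_mem_sup {p : ℕ} {P B : Subgroup G} (hP : IsPGroup p P)
    (hPB : P ≤ normalizer (B : Set G)) {y : G} (hy : y ∈ P ⊔ B) : ∃ n : ℕ, y ^ (p ^ n) ∈ B := by
  have hle : P ⊔ B ≤ normalizer (B : Set G) := sup_le hPB le_normalizer
  have hn : (B.subgroupOf (P ⊔ B)).Normal := normal_subgroupOf_of_le_normalizer hle
  let S : Subgroup G := P ⊔ B
  let π : S →* S ⧸ (B.subgroupOf S) := QuotientGroup.mk' (B.subgroupOf S)
  have hsup : (P.subgroupOf S) ⊔ (B.subgroupOf S) = ⊤ := by
    rw [← subgroupOf_sup le_sup_left le_sup_right, subgroupOf_self]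
  have hpi : (P.subgroupOf S).map π = ⊤ := by
    have h1 : ((P.subgroupOf S) ⊔ (B.subgroupOf S)).map π = ⊤ := by
      rw [hsup, ← MonoidHom.range_eq_map]
      exact MonoidHom.range_eq_top.mpr (QuotientGroup.mk'_surjective _)
    rw [Subgroup.map_sup] at h1
    have h2 : (B.subgroupOf S).map π = ⊥ := by
      rw [Subgroup.map_eq_bot_iff]
      exact (QuotientGroup.ker_mk' _).symm.le
    rwa [h2, sup_bot_eq] at h1
  have hPS : IsPGroup p (P.subgroupOf S) := hP.of_equiv (subgroupOfEquivOfLe le_sup_left).symm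
  have hQ : IsPGroup p ((P.subgroupOf S).map π) := hPS.map π
  rw [hpi] at hQ
  obtain ⟨n, hn'⟩ := hQ ⟨π ⟨y, hy⟩, trivial⟩
  refine ⟨n, ?_⟩
  have h3 : π (⟨y, hy⟩ ^ (p ^ n)) = 1 := by
    rw [map_pow]
    exact congrArg Subtype.val hn'
  have h4 : (⟨y, hy⟩ : S) ^ (p ^ n) ∈ B.subgroupOf S := by
    rw [← QuotientGroup.ker_mk' (B.subgroupOf S)]
    exact h3
  simpa [mem_subgroupOf] using h4

theorem mem_of_pow_mem_of_coprime {p : ℕ} {B : Subgroup G} {y : G}
    (hc : (orderOf y).Coprime p) {n : ℕ} (h : y ^ (p ^ n) ∈ B) : y ∈ B := by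
  obtain ⟨m, hm⟩ := exists_pow_eq_self_of_coprime (Nat.Coprime.pow_left n hc.symm)
  rw [← hm]
  exact B.pow_mem h m

/-- the subgroup generated by the `p'`-elements of `B` -/
def res (p : ℕ) (B : Subgroup G) : Subgroup G :=
  closure {x | x ∈ B ∧ (orderOf x).Coprime p}

theorem res_le (p : ℕ) (B : Subgroup G) : res p B ≤ B :=
  (closure_le _).mpr fun _ hx => hx.1

theorem mem_res {p : ℕ} {B : Subgroup G} {x : G} (hx : x ∈ B) (hc : (orderOf x).Coprime p) :
    x ∈ res p B := subset_closure ⟨hx, hc⟩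

theorem conj_mem_of_gen {p : ℕ} {B K : Subgroup G} {g : G}
    (h : ∀ x ∈ B, (orderOf x).Coprime p → g * x * g⁻¹ ∈ K) {y : G} (hy : y ∈ res p B) :
    g * y * g⁻¹ ∈ K := by
  have h1 : (res p B).map (MulAut.conj g).toMonoidHom ≤ K := by
    rw [res, MonoidHom.map_closure, closure_le]
    rintro _ ⟨x, hx, rfl⟩
    exact h x hx.1 hx.2
  exact h1 ⟨y, hy, rfl⟩

theorem mem_normalizer_of_forall {P K : Subgroup G}
    (h : ∀ g ∈ P, ∀ y ∈ K, g * y * g⁻¹ ∈ K) : P ≤ normalizer (K : Set G) := by
  intro g hg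
  rw [mem_normalizer_iff]
  intro y
  refine ⟨h g hg y, fun hy => ?_⟩
  have := h g⁻¹ (P.inv_mem hg) _ hy
  simpa [mul_assoc] using this

theorem orderOf_conj' (g x : G) : orderOf (g * x * g⁻¹) = orderOf x := by
  have : g * x * g⁻¹ = MulAut.conj g x := rfl
  rw [this, MulEquiv.orderOf_eq]

theorem normalizer_le_normalizer_res {p : ℕ} {B : Subgroup G} :
    normalizer (B : Set G) ≤ normalizer (res p B : Set G) := by
  apply mem_normalizer_of_forall
  intro g hg y hy
  refine conj_mem_of_gen (fun x hx hc => mem_res ?_ ?_) hy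
  · exact (mem_normalizer_iff.mp hg x).mp hx
  · rwa [orderOf_conj']

theorem res_ne_bot [Finite G] {p : ℕ} (hp : p.Prime) {B : Subgroup G} (h : ¬ IsPGroup p B) :
    res p B ≠ ⊥ := by
  intro hb
  apply h
  have : Fact p.Prime := ⟨hp⟩
  rw [IsPGroup.iff_card]
  refine ⟨(Nat.card B).factorization p, ?_⟩
  by_contra hne
  -- a prime `r ≠ p` dividing the order
  have hpos : Nat.card B ≠ 0 := Nat.card_pos.ne'
  have : ∃ r : ℕ, r.Prime ∧ r ∣ Nat.card B ∧ r ≠ p := by
    by_contra hno
    push Not at hno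
    apply hne
    exact Nat.eq_prime_pow_of_unique_prime_dvd hpos (fun {d} hd hd' => hno d hd hd')
      |>.trans (by
        congr 1
        have := Nat.eq_prime_pow_of_unique_prime_dvd hpos (fun {d} hd hd' => hno d hd hd')
        conv_rhs => rw [this]
        rw [hp.factorization_pow, Finsupp.single_eq_same])
  obtain ⟨r, hr, hrd, hrp⟩ := this
  have : Fact r.Prime := ⟨hr⟩
  obtain ⟨x, hx⟩ := exists_prime_orderOf_dvd_card' r hrd
  have h1 : orderOf (x : G) = r := by rw [← hx]; exact Subgroup.orderOf_coe x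
  have h2 : (x : G) ∈ res p B := mem_res x.2 (by rw [h1]; exact (Nat.coprime_primes hr hp).mpr hrp)
  rw [hb, mem_bot] at h2
  rw [h2, orderOf_one] at h1
  exact hr.one_lt.ne h1

/-- The configuration. -/
structure Pair (M N X Y A B : Subgroup G) : Prop where
  nM : ∀ K : Subgroup G, K ≠ ⊥ → K ≤ M → M ≤ normalizer (K : Set G) → normalizer (K : Set G) ≤ M
  nN : ∀ K : Subgroup G, K ≠ ⊥ → K ≤ N → N ≤ normalizer (K : Set G) → normalizer (K : Set G) ≤ N
  both : ∀ K : Subgroup G, K ≤ M → K ≤ N → M ≤ normalizer (K : Set G) →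
    N ≤ normalizer (K : Set G) → K = ⊥
  memX : ∀ x : G, x ∈ X ↔ x ∈ M ∧ ∀ m ∈ M, m * x * m⁻¹ ∈ M ⊓ N
  memY : ∀ x : G, x ∈ Y ↔ x ∈ N ∧ ∀ m ∈ N, m * x * m⁻¹ ∈ M ⊓ N
  AX : A ≤ X
  AY : A ≤ Y
  MA : M ≤ normalizer (A : Set G)
  BX : B ≤ X
  BY : B ≤ Y
  NB : N ≤ normalizer (B : Set G)
  A0 : A ≠ ⊥
  B0 : B ≠ ⊥
  conj : ∃ g : G, N = M.map (MulAut.conj g).toMonoidHom

namespace Pair

variable {M N X Y A B : Subgroup G}

theorem symm (h : Pair M N X Y A B) : Pair N M Y X B A where
  nM := h.nN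
  nN := h.nM
  both := fun K h1 h2 h3 h4 => h.both K h2 h1 h4 h3
  memX := by simpa [inf_comm] using h.memY
  memY := by simpa [inf_comm] using h.memX
  AX := h.BY
  AY := h.BX
  MA := h.NB
  BX := h.AY
  BY := h.AX
  NB := h.MA
  A0 := h.B0
  B0 := h.A0
  conj := by
    obtain ⟨g, hg⟩ := h.conj
    refine ⟨g⁻¹, ?_⟩
    rw [hg, Subgroup.map_map]
    have : (MulAut.conj g⁻¹).toMonoidHom.comp (MulAut.conj g).toMonoidHom = MonoidHom.id G := by
      ext x
      change g⁻¹ * (g * x * g⁻¹) * g⁻¹⁻¹ = x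
      group
    rw [this, Subgroup.map_id]

theorem XM (h : Pair M N X Y A B) : X ≤ M := fun x hx => ((h.memX x).mp hx).1

theorem XN (h : Pair M N X Y A B) : X ≤ N := fun x hx => by
  have := ((h.memX x).mp hx).2 1 M.one_mem
  simpa using this.2

theorem YN (h : Pair M N X Y A B) : Y ≤ N := h.symm.XM
theorem YM (h : Pair M N X Y A B) : Y ≤ M := h.symm.XN

theorem MX (h : Pair M N X Y A B) : M ≤ normalizer (X : Set G) := by
  apply mem_normalizer_of_forall
  intro g hg x hx
  rw [h.memX] at hx ⊢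
  refine ⟨M.mul_mem (M.mul_mem hg hx.1) (M.inv_mem hg), fun m hm => ?_⟩
  have := hx.2 (m * g) (M.mul_mem hm hg)
  simpa [mul_assoc] using this

theorem NY (h : Pair M N X Y A B) : N ≤ normalizer (Y : Set G) := h.symm.MX

theorem le_X (h : Pair M N X Y A B) {K : Subgroup G} (hM : K ≤ M) (hN : K ≤ N)
    (hK : M ≤ normalizer (K : Set G)) : K ≤ X := by
  intro x hx
  rw [h.memX]
  refine ⟨hM hx, fun m hm => ?_⟩
  have := (mem_normalizer_iff.mp (hK hm) x).mp hx
  exact ⟨hM this, hN this⟩

/-- a `p`-subgroup of `X` normalized by `X` lies in `O_p(M)` -/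
theorem le_pcore_of_X (h : Pair M N X Y A B) {p : ℕ} {R : Subgroup G} (hRX : R ≤ X)
    (hXR : X ≤ normalizer (R : Set G)) (hR : IsPGroup p R) :
    R ≤ (pCore p M).map M.subtype := by
  have h1 : R ≤ (pCore p X).map X.subtype := le_map_pCore hRX hR hXR
  refine h1.trans (le_map_pCore ((map_subtype_le _).trans h.XM) (isPGroup_map_pCore p X) ?_)
  -- `M` normalizes `O_p(X)`
  apply mem_normalizer_of_forall
  intro g hg y hy
  have hX : M ≤ normalizer (X : Set G) := h.MX
  have h2 : ((pCore p X).map X.subtype).map (MulAut.conj g).toMonoidHom ≤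
      (pCore p X).map X.subtype := by
    have hXg : X.map (MulAut.conj g).toMonoidHom = X := by
      ext z
      constructor
      · rintro ⟨w, hw, rfl⟩
        exact (mem_normalizer_iff.mp (hX hg) w).mp hw
      · intro hz
        refine ⟨g⁻¹ * z * g, ?_, by simp [mul_assoc]⟩
        have := (mem_normalizer_iff.mp (hX (M.inv_mem hg)) z).mp hz
        simpa using this
    refine le_map_pCore ?_ ((isPGroup_map_pCore p X).map _) ?_
    · calc _ ≤ X.map (MulAut.conj g).toMonoidHom := Subgroup.map_mono (map_subtype_le _)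
        _ = X := hXg
    · apply mem_normalizer_of_forall
      rintro x hx _ ⟨w, hw, rfl⟩
      have hx' : g⁻¹ * x * g ∈ X := by
        have := (mem_normalizer_iff.mp (hX (M.inv_mem hg)) x).mp hx
        simpa using this
      refine ⟨(g⁻¹ * x * g) * w * (g⁻¹ * x * g)⁻¹, ?_, by simp [mul_assoc]⟩
      exact (mem_normalizer_iff.mp (le_normalizer_map_pCore p X hx') w).mp hw
  exact h2 ⟨y, hy, rfl⟩

/-- the main step: if `B` is not a `p`-group then `O_p(M) = 1`. -/
theorem pCore_eq_bot [Finite G] (h : Pair M N X Y A B) {p : ℕ} (hp : p.Prime)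
    (hB : ¬ IsPGroup p B) : (pCore p M).map M.subtype = ⊥ := by
  by_contra hQ
  have : Fact p.Prime := ⟨hp⟩
  set Q1 : Subgroup G := (pCore p M).map M.subtype with hQ1
  set Q2 : Subgroup G := (pCore p N).map N.subtype with hQ2
  have hQ1M : Q1 ≤ M := map_subtype_le _
  have hQ2N : Q2 ≤ N := map_subtype_le _
  have hMQ1 : M ≤ normalizer (Q1 : Set G) := le_normalizer_map_pCore p M
  have hNQ2 : N ≤ normalizer (Q2 : Set G) := le_normalizer_map_pCore p N
  have hpQ1 : IsPGroup p Q1 := isPGroup_map_pCore p M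
  have hpQ2 : IsPGroup p Q2 := isPGroup_map_pCore p N
  set T : Subgroup G := res p B with hT
  have hT0 : T ≠ ⊥ := res_ne_bot hp hB
  have hTB : T ≤ B := res_le p B
  have hBN : B ≤ N := h.BX.trans h.XN
  have hNT : N ≤ normalizer (T : Set G) := h.NB.trans normalizer_le_normalizer_res
  have hTN : normalizer (T : Set G) ≤ N := h.nN T hT0 (hTB.trans hBN) hNT
  have hXM := h.XM
  have hXN := h.XN
  -- Step 1
  have s1 : Q1 ≤ normalizer (T : Set G) := by
    apply mem_normalizer_of_forall
    intro u hu y hy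
    refine conj_mem_of_gen (fun x hx hc => mem_res ?_ (by rwa [orderOf_conj'])) hy
    have hxX : x ∈ X := h.BX hx
    have h1 : u * x * u⁻¹ * x⁻¹ ∈ Q1 := by
      have : x * u⁻¹ * x⁻¹ ∈ Q1 :=
        (mem_normalizer_iff.mp (hMQ1 (hXM hxX)) _).mp (Q1.inv_mem hu)
      simpa [mul_assoc] using Q1.mul_mem hu this
    have h2 : u * x * u⁻¹ * x⁻¹ ∈ X :=
      X.mul_mem ((mem_normalizer_iff.mp (h.MX (hQ1M hu)) x).mp hxX) (X.inv_mem hxX)
    have h3 : u * x * u⁻¹ ∈ (X ⊓ Q1) ⊔ B := by
      have : u * x * u⁻¹ = (u * x * u⁻¹ * x⁻¹) * x := by group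
      rw [this]
      exact Subgroup.mul_mem_sup ⟨h2, h1⟩ hx
    have h4 : IsPGroup p (X ⊓ Q1 : Subgroup G) := hpQ1.to_le inf_le_right
    have h5 : X ⊓ Q1 ≤ normalizer (B : Set G) := (inf_le_left.trans hXN).trans h.NB
    obtain ⟨n, hn⟩ := pow_mem_of_mem_sup h4 h5 h3
    exact mem_of_pow_mem_of_coprime (by rwa [orderOf_conj']) hn
  -- Step 2
  have s2 : Q1 ≤ N := s1.trans hTN
  have s2' : Q1 ≤ X := h.le_X hQ1M s2 hMQ1
  -- Step 3
  set P : Subgroup G := Q2 ⊓ M with hP
  have hpP : IsPGroup p P := hpQ2.to_le inf_le_left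
  have hXP : X ≤ normalizer (P : Set G) := by
    apply mem_normalizer_of_forall
    intro x hx u hu
    exact ⟨(mem_normalizer_iff.mp (hNQ2 (hXN hx)) u).mp hu.1,
      M.mul_mem (M.mul_mem (hXM hx) hu.2) (M.inv_mem (hXM hx))⟩
  have hPX1 : P ⊓ X ≤ Q1 := by
    refine h.le_pcore_of_X inf_le_right ?_ (hpP.to_le inf_le_left)
    apply mem_normalizer_of_forall
    intro x hx u hu
    exact ⟨(mem_normalizer_iff.mp (hXP hx) u).mp hu.1,
      X.mul_mem (X.mul_mem hx hu.2) (X.inv_mem hx)⟩
  have hcomm : ∀ u ∈ P, ∀ x ∈ X, u * x * u⁻¹ * x⁻¹ ∈ Q1 := by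
    intro u hu x hx
    refine hPX1 ⟨?_, ?_⟩
    · have : x * u⁻¹ * x⁻¹ ∈ P := (mem_normalizer_iff.mp (hXP hx) _).mp (P.inv_mem hu)
      simpa [mul_assoc] using P.mul_mem hu this
    · exact X.mul_mem ((mem_normalizer_iff.mp (h.MX hu.2) x).mp hx) (X.inv_mem hx)
  have s3 : ∀ m ∈ M, ∀ u ∈ P, m * u * m⁻¹ ∈ normalizer (T : Set G) := by
    intro m hm u hu
    have key : ∀ v ∈ P.map (MulAut.conj m).toMonoidHom, ∀ y ∈ T, v * y * v⁻¹ ∈ T := by
      rintro _ ⟨w, hw, rfl⟩ y hy
      refine conj_mem_of_gen (fun x hx hc => ?_) hy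
      have hxX : x ∈ X := h.BX hx
      have hxT : x ∈ T := mem_res hx hc
      set v : G := (MulAut.conj m).toMonoidHom w with hv
      have hv' : v = m * w * m⁻¹ := rfl
      have h1 : v * x * v⁻¹ * x⁻¹ ∈ Q1 := by
        have hx' : m⁻¹ * x * m ∈ X := by
          have := (mem_normalizer_iff.mp (h.MX (M.inv_mem hm)) x).mp hxX
          simpa using this
        have h2 := hcomm w hw _ hx'
        have h3 := (mem_normalizer_iff.mp (hMQ1 hm) _).mp h2
        have h4 : m * (w * (m⁻¹ * x * m) * w⁻¹ * (m⁻¹ * x * m)⁻¹) * m⁻¹ =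
            v * x * v⁻¹ * x⁻¹ := by
          rw [hv']; group
        rwa [h4] at h3
      have h2 : v * x * v⁻¹ ∈ Q1 ⊔ T := by
        have : v * x * v⁻¹ = (v * x * v⁻¹ * x⁻¹) * x := by group
        rw [this]
        exact Subgroup.mul_mem_sup h1 hxT
      obtain ⟨n, hn⟩ := pow_mem_of_mem_sup hpQ1 s1 h2
      exact mem_of_pow_mem_of_coprime (by rwa [orderOf_conj']) hn
    exact mem_normalizer_of_forall key ⟨u, hu, rfl⟩
  -- Step 4
  have s4 : P ≤ Q1 := by
    intro u hu
    refine hPX1 ⟨hu, (h.memX u).mpr ?_⟩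
    refine ⟨hu.2, fun m hm => ⟨M.mul_mem (M.mul_mem hm hu.2) (M.inv_mem hm), hTN (s3 m hm u hu)⟩⟩
  -- Step 5
  have hNQ1 : normalizer (Q1 : Set G) ≤ M := h.nM Q1 hQ hQ1M hMQ1
  have s5 : Q2 ≤ Q1 := by
    have hle : Q1 ≤ normalizer (Q2 : Set G) := s2.trans hNQ2
    set S : Subgroup G := Q1 ⊔ Q2 with hS
    have hpS : IsPGroup p S := by
      rw [hS]
      exact hpQ1.to_sup_of_normal_right' hpQ2 hle
    have : Group.IsNilpotent S := hpS.isNilpotent
    by_contra hno
    have hlt : Q1.subgroupOf S < ⊤ := by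
      rw [lt_top_iff_ne_top]
      intro htop
      rw [subgroupOf_eq_top] at htop
      exact hno (le_sup_right.trans htop)
    have hnc := Group.normalizerCondition_of_isNilpotent (G := S) _ hlt
    obtain ⟨s, hs, hs'⟩ := SetLike.exists_of_lt hnc
    have hs1 : (s : G) ∈ normalizer (Q1 : Set G) := by
      rw [mem_normalizer_iff]
      intro y
      constructor
      · intro hy
        have := (mem_normalizer_iff.mp hs ⟨y, le_sup_left (a := Q1) hy⟩).mp (mem_subgroupOf.mpr hy)
        exact mem_subgroupOf.mp this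
      · intro hy
        have hyS : y ∈ S := by
          have : y = (s : G)⁻¹ * (s * y * (s : G)⁻¹) * s := by group
          rw [this]
          exact S.mul_mem (S.mul_mem (S.inv_mem s.2) (le_sup_left (a := Q1) hy)) s.2
        have := (mem_normalizer_iff.mp hs ⟨y, hyS⟩).mpr (mem_subgroupOf.mpr hy)
        exact mem_subgroupOf.mp this
    have hs2 : (s : G) ∈ Q1 := by
      have hmem : (s : G) ∈ ((Q1 ⊔ Q2 : Subgroup G) : Set G) := s.2
      rw [coe_mul_of_left_le_normalizer_right _ _ hle] at hmem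
      obtain ⟨a, ha, b, hb, hab⟩ := hmem
      have hb1 : b ∈ normalizer (Q1 : Set G) := by
        have : b = a⁻¹ * s := by rw [← hab]; group
        rw [this]
        exact (normalizer (Q1 : Set G)).mul_mem
          ((normalizer (Q1 : Set G)).inv_mem (le_normalizer ha)) hs1
      have hb2 : b ∈ Q1 := s4 ⟨hb, hNQ1 hb1⟩
      rw [← hab]
      exact Q1.mul_mem ha hb2
    exact hs' (mem_subgroupOf.mpr hs2)
  -- Step 6
  have s6 : Q1 = Q2 := by
    refine (eq_of_le_of_card_ge s5 ?_).symm
    obtain ⟨g, hg⟩ := h.conj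
    have e : M ≃* N := by
      rw [hg]
      exact (MulAut.conj g).subgroupMap M
    have h1 := Cores.map_equiv_pCore e p
    have h2 : Nat.card (pCore p N) = Nat.card (pCore p M) := by
      rw [← h1]
      exact Nat.card_congr ((pCore p M).equivMapOfInjective _ e.injective).toEquiv.symm
    rw [hQ1, hQ2, card_map_subtype, card_map_subtype, h2]
  apply hQ
  refine h.both Q1 hQ1M s2 hMQ1 ?_
  rw [s6]
  exact hNQ2

/-- every component of `M` lies in `Y`. -/
theorem component_le_Y (h : Pair M N X Y A B) {L : Subgroup M} (hL : IsComponent L) :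
    L.map M.subtype ≤ Y := by
  have hXM := h.XM
  have hXN := h.XN
  have hBM : B ≤ M := h.BX.trans hXM
  -- `B` is subnormal in `M`
  have hBsub : (B.subgroupOf M).IsSubnormal := by
    have h1 : (X.subgroupOf M).Normal := normal_subgroupOf_of_le_normalizer h.MX
    have h2 : ((B.subgroupOf M).subgroupOf (X.subgroupOf M)).Normal := by
      apply normal_subgroupOf_of_le_normalizer
      apply mem_normalizer_of_forall
      intro x hx b hb
      rw [mem_subgroupOf] at hx hb ⊢
      have := (mem_normalizer_iff.mp (h.NB (hXN hx)) _).mp hb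
      simpa using this
    exact Subgroup.IsSubnormal.step _ _ (Subgroup.comap_mono h.BX) h1.isSubnormal h2
  -- so `L` normalizes `B`
  have hLB : L.map M.subtype ≤ normalizer (B : Set G) := by
    rcases SignalizersComponents.Components.component_le_or_commutator_eq_bot hL hBsub with h1 | h1
    · refine le_trans ?_ le_normalizer
      rintro _ ⟨x, hx, rfl⟩
      exact mem_subgroupOf.mp (h1 hx)
    · rintro _ ⟨x, hx, rfl⟩
      rw [commutator_eq_bot_iff_le_centralizer] at h1
      apply centralizer_le_normalizer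
      rw [mem_centralizer_iff]
      intro b hb
      have := mem_centralizer_iff.mp (h1 hx) ⟨b, hBM hb⟩ (mem_subgroupOf.mpr hb)
      exact congrArg Subtype.val this
  have hLN : L.map M.subtype ≤ N := hLB.trans (h.nN B h.B0 (h.BX.trans hXN) h.NB)
  have hLY : L ≤ normalizer ((Y.subgroupOf M : Subgroup M) : Set M) := by
    apply mem_normalizer_of_forall
    intro x hx y hy
    rw [mem_subgroupOf] at hy ⊢
    have := (mem_normalizer_iff.mp (h.NY (hLN ⟨x, hx, rfl⟩)) _).mp hy
    simpa using this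
  rcases SignalizersComponents.Components.component_le_or_commutator_eq_bot_of_le_normalizer
    hL hLY with h1 | h1
  · rintro _ ⟨x, hx, rfl⟩
    exact mem_subgroupOf.mp (h1 hx)
  · exfalso
    -- `C_N(Y) ≤ Y`
    have hC : centralizer (Y : Set G) ⊓ N ≤ Y := by
      have h2 : centralizer (Y : Set G) ≤ M := by
        refine le_trans ?_ (h.nM A h.A0 (h.AX.trans hXM) h.MA)
        refine le_trans ?_ (centralizer_le_normalizer _)
        exact centralizer_le h.AY
      refine h.symm.le_X inf_le_right (inf_le_left.trans h2) ?_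
      apply mem_normalizer_of_forall
      intro n hn c hc
      refine ⟨?_, N.mul_mem (N.mul_mem hn hc.2) (N.inv_mem hn)⟩
      have hc1 := mem_centralizer_iff.mp hc.1
      refine mem_centralizer_iff.mpr ?_
      intro y hy
      have h3 := hc1 (n⁻¹ * y * n) (by
        have := (mem_normalizer_iff.mp (h.NY (N.inv_mem hn)) y).mp hy
        simpa using this)
      have h4 : n * (n⁻¹ * y * n * c) * n⁻¹ = n * (c * (n⁻¹ * y * n)) * n⁻¹ := by rw [h3]
      calc y * (n * c * n⁻¹) = n * (n⁻¹ * y * n * c) * n⁻¹ := by group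
        _ = n * (c * (n⁻¹ * y * n)) * n⁻¹ := h4
        _ = n * c * n⁻¹ * y := by group
    rw [commutator_eq_bot_iff_le_centralizer] at h1
    have hLcY : L ≤ Y.subgroupOf M := by
      intro x hx
      rw [mem_subgroupOf]
      refine hC ⟨mem_centralizer_iff.mpr ?_, hLN ⟨x, hx, rfl⟩⟩
      intro y hy
      have := mem_centralizer_iff.mp (h1 hx) ⟨y, h.YM hy⟩ (mem_subgroupOf.mpr hy)
      exact congrArg Subtype.val this
    apply SignalizersComponents.Components.quasisimple_not_isMulCommutative hL.2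
    refine ⟨⟨fun a b => ?_⟩⟩
    have := mem_centralizer_iff.mp (h1 a.2) _ (hLcY b.2)
    exact Subtype.ext this.symm

theorem layer_map_le [Finite G] (h : Pair M N X Y A B) :
    (layer M).map M.subtype ≤ (layer N).map N.subtype := by
  rw [layer, sSup_eq_iSup', Subgroup.map_iSup]
  refine iSup_le ?_
  rintro ⟨L, hL⟩
  change L.map M.subtype ≤ _
  set L' : Subgroup G := L.map M.subtype with hL'
  have hLY : L' ≤ Y := h.component_le_Y hL
  have hLN : L' ≤ N := hLY.trans h.YN
  suffices hc : IsComponent (L'.subgroupOf N) by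
    have h1 := Subgroup.map_mono (f := N.subtype) (SignalizersComponents.Components.component_le_layer hc)
    rwa [Subgroup.map_subgroupOf_eq_of_le hLN] at h1
  have hYM := h.YM
  -- `L'` is subnormal in `Y`
  have h1 : (L'.subgroupOf Y).IsSubnormal := by
    have h2 : (L.subgroupOf (Y.subgroupOf M)).IsSubnormal := hL.1.subgroupOf
    have h3 := h2.map (f := (subgroupOfEquivOfLe hYM).toMonoidHom) (subgroupOfEquivOfLe hYM).surjective
    convert h3 using 1
    ext x
    constructor
    · intro hx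
      rw [mem_subgroupOf] at hx
      obtain ⟨z, hz, hzx⟩ := hx
      refine ⟨⟨z, ?_⟩, ?_, ?_⟩
      · rw [mem_subgroupOf]
        have : (z : G) = x := hzx
        rw [this]; exact x.2
      · exact mem_subgroupOf.mpr hz
      · exact Subtype.ext hzx
    · rintro ⟨z, hz, rfl⟩
      rw [mem_subgroupOf]
      exact ⟨z, mem_subgroupOf.mp hz, rfl⟩
  have h2 : ((L'.subgroupOf Y).map Y.subtype).subgroupOf N = L'.subgroupOf N := by
    rw [Subgroup.map_subgroupOf_eq_of_le hLY]
  have h3 : (L'.subgroupOf N).IsSubnormal := by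
    have hYn : (Y.subgroupOf N).Normal := normal_subgroupOf_of_le_normalizer h.NY
    have h4 : ((L'.subgroupOf N).subgroupOf (Y.subgroupOf N)).IsSubnormal := by
      have h5 := h1.map (f := (subgroupOfEquivOfLe h.YN).symm.toMonoidHom)
        (subgroupOfEquivOfLe h.YN).symm.surjective
      convert h5 using 1
      ext x
      constructor
      · intro hx
        refine ⟨⟨((x : N) : G), mem_subgroupOf.mp x.2⟩, ?_, ?_⟩
        · exact hx
        · exact Subtype.ext (Subtype.ext rfl)
      · rintro ⟨z, hz, rfl⟩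
        exact hz
    have h6 := h4.trans' hYn.isSubnormal
    have h7 : L'.subgroupOf N ≤ Y.subgroupOf N := Subgroup.comap_mono hLY
    rwa [Subgroup.map_subgroupOf_eq_of_le h7] at h6
  refine ⟨h3, ?_⟩
  refine SignalizersComponents.Components.isQuasisimple_of_mulEquiv ?_ hL.2
  exact (L.equivMapOfInjective M.subtype M.subtype_injective).trans
    (subgroupOfEquivOfLe hLN).symm

theorem layer_eq_bot [Finite G] (h : Pair M N X Y A B) : layer M = ⊥ := by
  have h1 : (layer M).map M.subtype = (layer N).map N.subtype :=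
    le_antisymm h.layer_map_le h.symm.layer_map_le
  have h2 : (layer M).map M.subtype = ⊥ := by
    refine h.both _ (map_subtype_le _) ?_ ?_ ?_
    · rw [h1]; exact map_subtype_le _
    · exact le_normalizer_map_subtype M _ (SignalizersComponents.Components.layer_normal M)
    · rw [h1]
      exact le_normalizer_map_subtype N _ (SignalizersComponents.Components.layer_normal N)
  rwa [Subgroup.map_eq_bot_iff_of_injective _ M.subtype_injective] at h2

theorem main [Finite G] (h : Pair M N X Y A B) : ∃ p : ℕ, p.Prime ∧ IsPGroup p A ∧ IsPGroup p B ∧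
    generalizedFittingSubgroup M = pCore p M ∧ ∀ r : ℕ, r.Prime → r ≠ p → pCore r M = ⊥ := by
  have hlay := h.layer_eq_bot
  have hF : generalizedFittingSubgroup M = fittingSubgroup M := by
    rw [generalizedFittingSubgroup, hlay, bot_sup_eq]
  have hMbot : ∀ r : ℕ, r.Prime → ¬ IsPGroup r B ∨ ¬ IsPGroup r A → pCore r M = ⊥ := by
    intro r hr hor
    rcases hor with hor | hor
    · have := h.pCore_eq_bot hr hor
      rwa [Subgroup.map_eq_bot_iff_of_injective _ M.subtype_injective] at this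
    · have h1 := h.symm.pCore_eq_bot hr hor
      rw [Subgroup.map_eq_bot_iff_of_injective _ N.subtype_injective] at h1
      obtain ⟨g, hg⟩ := h.conj
      have e : M ≃* N := by
        rw [hg]
        exact (MulAut.conj g).subgroupMap M
      have h2 := Cores.map_equiv_pCore e r
      rw [h1] at h2
      rwa [Subgroup.map_eq_bot_iff_of_injective _ e.injective] at h2
  have hne : ∃ p : ℕ, p.Prime ∧ pCore p M ≠ ⊥ := by
    by_contra hno
    push Not at hno
    have h1 : fittingSubgroup M = ⊥ := by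
      rw [Cores.fittingSubgroup_eq_iSup_pCore, iSup_eq_bot]
      intro p
      exact hno p p.2
    have h2 := SignalizersComponents.CharP.le_genFitting_of_le_centralizer (G := M) (C := ⊤)
      (Subgroup.Normal.isSubnormal inferInstance) (by
        rw [hF, h1]
        intro x _
        rw [mem_centralizer_iff]
        intro y hy
        rw [SetLike.mem_coe, mem_bot] at hy
        rw [hy, one_mul, mul_one])
    rw [hF, h1, top_le_iff] at h2
    apply h.A0
    rw [eq_bot_iff]
    intro a ha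
    have ha' : (⟨a, h.XM (h.AX ha)⟩ : M) ∈ (⊥ : Subgroup M) := by rw [h2]; trivial
    rw [mem_bot] at ha' ⊢
    exact congrArg Subtype.val ha'
  obtain ⟨p, hp, hpM⟩ := hne
  have hpA : IsPGroup p A := by
    by_contra hno; exact hpM (hMbot p hp (Or.inr hno))
  have hpB : IsPGroup p B := by
    by_contra hno; exact hpM (hMbot p hp (Or.inl hno))
  have hrM : ∀ r : ℕ, r.Prime → r ≠ p → pCore r M = ⊥ := by
    intro r hr hrp
    apply hMbot r hr
    right
    intro hrA
    apply h.A0
    have : Fact p.Prime := ⟨hp⟩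
    have : Fact r.Prime := ⟨hr⟩
    obtain ⟨a, ha⟩ := (IsPGroup.iff_card).mp hpA
    obtain ⟨b, hb⟩ := (IsPGroup.iff_card).mp hrA
    rw [← Subgroup.card_eq_one]
    have h1 : Nat.card A ∣ Nat.gcd (p ^ a) (r ^ b) := Nat.dvd_gcd ⟨1, by rw [ha, mul_one]⟩ ⟨1, by rw [hb, mul_one]⟩
    rw [(Nat.Coprime.pow a b ((Nat.coprime_primes hp hr).mpr hrp.symm)).gcd_eq_one] at h1
    exact Nat.dvd_one.mp h1
  refine ⟨p, hp, hpA, hpB, ?_, hrM⟩
  rw [hF, Cores.fittingSubgroup_eq_iSup_pCore]
  apply le_antisymm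
  · refine iSup_le fun r => ?_
    by_cases hrp : (r : ℕ) = p
    · rw [hrp]
    · rw [hrM r r.2 hrp]; exact bot_le
  · exact le_iSup (fun r : Nat.Primes => pCore (r : ℕ) M) ⟨p, hp⟩

end Pair

end Cfsg.Agent.H900.TWCore
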